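import Cfsg.Agent.FS.N.Sq.Gen
import Cfsg.Agent.FS.N.M.Cert
import Cfsg.Agent.FS.Real.Math
import Cfsg.Agent.H882.Del.M11Grp
import Cfsg.Agent.MTwelveType.SylowModel

/-!
# S5288, models: `M₁₂.2` (helper83; the data are generated)
-/

set_option autoImplicit false
set_option maxRecDepth 100000

namespace Cfsg.Agent.FS.N.Sq

open Cfsg Subgroup Cfsg.Agent.FS.Real Cfsg.Agent.FS.N.M Cfsg.Agent.SporadicA.GolayBase Cfsg.Agent.SporadicA.GolayPerm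
open scoped Pointwise

/-- the stabilizer in `M₂₄` of a pair of sets -/
def Pr (m₁ m₂ : ℕ) : Subgroup (Equiv.Perm GolayPt) where
  carrier := {g | g ∈ M24 ∧ ((g • fin m₁ = fin m₁ ∧ g • fin m₂ = fin m₂) ∨ (g • fin m₁ = fin m₂ ∧ g • fin m₂ = fin m₁))}
  one_mem' := ⟨M24.one_mem, Or.inl ⟨one_smul _ _, one_smul _ _⟩⟩
  mul_mem' := by
    rintro a b ⟨h1, h2⟩ ⟨h3, h4⟩
    refine ⟨M24.mul_mem h1 h3, ?_⟩
    rw [mul_smul, mul_smul]
    rcases h2 with h2 | h2 <;> rcases h4 with h4 | h4 <;> rw [h4.1, h4.2, h2.1, h2.2]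
    exacts [Or.inl ⟨rfl, rfl⟩, Or.inr ⟨rfl, rfl⟩, Or.inr ⟨rfl, rfl⟩, Or.inl ⟨rfl, rfl⟩]
  inv_mem' := by
    rintro a ⟨h1, h2⟩
    refine ⟨M24.inv_mem h1, ?_⟩
    simp only [inv_smul_eq_iff]
    rcases h2 with h2 | h2
    exacts [Or.inl ⟨h2.1.symm, h2.2.symm⟩, Or.inr ⟨h2.2.symm, h2.1.symm⟩]

/-- check: the code sends the first set to `s` and the second to `t` -/
def snd (m₁ m₂ s t a : ℕ) : Bool := Nat.beq (pimg a m₁) s && Nat.beq (pimg a m₂) t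

theorem snd_spec {m₁ m₂ s t a : ℕ} (ha : isPerm a = true) (h : snd m₁ m₂ s t a = true) :
    permOf a ha • fin m₁ = fin s ∧ permOf a ha • fin m₂ = fin t := by
  unfold snd at h
  rw [Bool.and_eq_true] at h
  rw [smul_fin, smul_fin, beq_eq h.1, beq_eq h.2]
  exact ⟨rfl, rfl⟩

/-- the model -/
noncomputable def mPr (m₁ m₂ : ℕ) : Mdl (Pr m₁ m₂) :=
  mGol _ (fun a => snd m₁ m₂ m₁ m₂ a || snd m₁ m₂ m₂ m₁ a) fun _ ha h1 h2 =>
    ⟨h1, (Bool.or_eq_true _ _ ▸ h2 : _ ∨ _).imp (snd_spec ha) (snd_spec ha)⟩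

theorem base_pr {m₁ m₂ : ℕ} {N : Subgroup (Equiv.Perm GolayPt)}
    (hN : ∀ g, g ∈ N ↔ g ∈ M24 ∧ g • fin m₁ = fin m₁ ∧ g • fin m₂ = fin m₂) (hs : IsSimpleGroup N) {c : ℕ}
    (hc : Nat.card N = c) {D : PcD} {m : ℕ} (hm : c * 2 = 2 ^ D.n * m) (ho : ¬ 2 ∣ m) (h3 : 3 ∣ c) {X : ℕ → ℕ}
    {x : ℕ → Pr m₁ m₂} (hx : (mPr m₁ m₂).RX D X x) (hD : D.Ok) (hr : (mPr m₁ m₂).rels D X = true) {l : List CoreC}
    (hl : (mPr m₁ m₂).cores D X l = true) {K z : ℕ} (hk : ixOk D 0 K z = true)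
    (hX : (Nat.blt m₁ (2 ^ 24) && Nat.blt m₂ (2 ^ 24) && !Nat.beq m₂ m₁ && Nat.blt 0 D.n && allB D.n fun i =>
      isPerm (X i) && bif Nat.beq i 0 then snd m₁ m₂ m₂ m₁ (X i) else snd m₁ m₂ m₁ m₂ (X i)) = true) :
    Base D (Pr m₁ m₂) x K ∧ Nat.card (Pr m₁ m₂) = c * 2 ∧ (N.subgroupOf (Pr m₁ m₂)).index = 2 ∧
      ∀ a, a < 2 ^ D.n → (el x D.n a ∈ N.subgroupOf (Pr m₁ m₂) ↔ ¬ (0 < D.n ∧ tb a 0 = true)) := by
  simp only [Bool.and_eq_true] at hX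
  obtain ⟨⟨⟨⟨k1, k2⟩, k3⟩, k4⟩, k5⟩ := hX
  have hne : fin m₂ ≠ fin m₁ := fun e => nbeq_ne k3 (fin_injective (blt_lt k2) (blt_lt k1) e)
  have hle : N ≤ Pr m₁ m₂ := fun g hg => ⟨((hN g).1 hg).1, Or.inl ((hN g).1 hg).2⟩
  have hv : ∀ i, i < D.n → ∃ ha : isPerm (X i) = true, (x i : Equiv.Perm GolayPt) = permOf _ ha ∧
      (bif Nat.beq i 0 then snd m₁ m₂ m₂ m₁ (X i) else snd m₁ m₂ m₁ m₂ (X i)) = true := fun i hi => by
    have h1 := allB_spec k5 hi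
    rw [Bool.and_eq_true] at h1
    exact ⟨h1.1, Equiv.ext fun p => idx_injective ((hx i hi p).trans (idx_permOf h1.1 p).symm), h1.2⟩
  have hin : ∀ i, i < D.n → i ≠ 0 → x i ∈ N.subgroupOf (Pr m₁ m₂) := fun i hi e => by
    obtain ⟨ha, h1, h2⟩ := hv i hi
    obtain ⟨j, rfl⟩ := Nat.exists_eq_succ_of_ne_zero e
    rw [mem_subgroupOf]
    exact (hN _).2 ⟨(x _).2.1, h1 ▸ snd_spec ha h2⟩
  have hout : x 0 ∉ N.subgroupOf (Pr m₁ m₂) := fun e => by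
    obtain ⟨ha, h1, h2⟩ := hv 0 (blt_lt k4)
    exact hne ((snd_spec ha h2).1.symm.trans (h1 ▸ ((hN _).1 e).2.1))
  have hmul : ∀ g h : Pr m₁ m₂, g ∉ N.subgroupOf (Pr m₁ m₂) → h ∉ N.subgroupOf (Pr m₁ m₂) →
      g * h ∈ N.subgroupOf (Pr m₁ m₂) := fun g h h1 h2 => by
    have h4 := g.2.2.resolve_left fun e => h1 ((hN _).2 ⟨g.2.1, e⟩)
    have h5 := h.2.2.resolve_left fun e => h2 ((hN _).2 ⟨h.2.1, e⟩)
    refine (hN _).2 ⟨(g * h).2.1, ?_⟩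
    rw [coe_subtype, coe_mul, mul_smul, mul_smul, h5.1, h5.2, h4.1, h4.2]
    exact ⟨rfl, rfl⟩
  have hi : (N.subgroupOf (Pr m₁ m₂)).index = 2 := index_eq_two_iff'.2 ⟨x 0, fun b => by
    by_cases hb : b ∈ N.subgroupOf (Pr m₁ m₂)
    · exact Or.inr ⟨hb, fun e => hout ((mul_mem_cancel_right hb).1 e)⟩
    · exact Or.inl ⟨hmul _ _ hout hb, hb⟩⟩
  have hcard : Nat.card (Pr m₁ m₂) = c * 2 := by
    rw [← (N.subgroupOf (Pr m₁ m₂)).card_mul_index, hi, Nat.card_congr (subgroupOfEquivOfLe hle).toEquiv, hc]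
  obtain ⟨S, J⟩ := hx.gen hD hr
  refine ⟨base_ix J (odd_index J (hcard.trans hm) ho) hmul ?_ hin hout hk (hx.cores hl), hcard, hi,
    fun a _ => el_mem_iff hin hout a _ le_rfl⟩
  rw [← inclusion_range hle]
  exact range_le (pResidual_eq_top (r := 3) (by norm_num) (by norm_num) (hc ▸ h3)) _

/-- the Sylow subgroup of `M12.2` -/
def dM122 : PcD := ⟨7, 0x8102040810000040810604000000a0c28300000000d02040000000003910000000000014000000000000,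
  0x7ef9ebc76e9cb86ed9ab466c98b05eb96ac56a94a84e992a446890a03e78e9c3668c982e58a9426488901e3868c16284880e182840608080fffbefcf7ebcf8efdbaf4e7cb8f0dfbb6ecd7ab4e8cf9b2e4c78b0e0bf7aedcb76acd8af5aad4a74a8d09f3a6cc972a4c88f1a2c4870a0c0bf7aedcb76acd8af5aad4a74a8d09f3a6cc972a4c88f1a2c4870a0c0fffbefcf7ebcf8efdbaf4e7cb8f0dfbb6ecd7ab4e8cf9b2e4c78b0e03e78e9c3668c982e58a9426488901e3868c16284880e1828406080807ef9ebc76e9cb86ed9ab466c98b05eb96ac56a94a84e992a446890a0dfbb6ecd7ab4e8cf9b2e4c78b0e0fffbefcf7ebcf8efdbaf4e7cb8f09f3a6cc972a4c88f1a2c4870a0c0bf7aedcb76acd8af5aad4a74a8d05eb96ac56a94a84e992a446890a07ef9ebc76e9cb86ed9ab466c98b01e3868c16284880e1828406080803e78e9c3668c982e58a9426488906ed9ab466c98b07ef9ebc76e9cb8cf9b2e4c78b0e0dfbb6ecd7ab4e82e58a9426488903e78e9c3668c988f1a2c4870a0c09f3a6cc972a4c8efdbaf4e7cb8f0fffbefcf7ebcf84e992a446890a05eb96ac56a94a8af5aad4a74a8d0bf7aedcb76acd80e18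28406080801e3868c162848876e9cb87ef9ebca74a8d0af5aad416284881e3868cc78b0e0cf9b2e43668c983e78e9ce7cb8f0efdbaf456a94a85eb96ac870a0c08f1a2c4f7ebcf8fffbefc26488902e58a94972a4c89f3a6cc46890a04e992a4b76acd8bf7aedc66c98b06ed9ab4d7ab4e8dfbb6ec06080800e182844a913a6f3e3dfadbb37eee3c39f2ebd3bf652a15aa7af1fbe42811a28b123c63260d9a1a3078e22409922a50b9693225cabb72fde83021c2cb933e672e1dba5ab17ae62c19b26ad1bb6d3a35eafbf3ffec3831e20a10386b362dda9b327cea3429d2ab52bd6122058a3a70f9e0200182eddce1da54ec59fdfca15b56e8518d1d62dc58f4699d3d225d5af061ad5de3de5cfc79bd7da35f5ef871cd9c60d850e449ddbc205952e0416cdee5d244cc197cfea55346c8110c1f66d448d4291c3f26554ad0212c5fe7d64cdc393c7fa7574ed8314c9e64d040c4095cbe245142c001,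
  0x7ef9ebc76e9cb86ed9ab466c98b05eb96ac56a94a84e992a446890a03e78e9c3668c982e58a9426488901e3868c16284880e182840608080fffbefcf7ebcf8efdbaf4e7cb8f0dfbb6ecd7ab4e8cf9b2e4c78b0e0bf7aedcb76acd8af5aad4a74a8d09f3a6cc972a4c88f1a2c4870a0c0bf7aedcb76acd8af5aad4a74a8d09f3a6cc972a4c88f1a2c4870a0c0fffbefcf7ebcf8efdbaf4e7cb8f0dfbb6ecd7ab4e8cf9b2e4c78b0e03e78e9c3668c982e58a9426488901e3868c16284880e1828406080807ef9ebc76e9cb86ed9ab466c98b05eb96ac56a94a84e992a446890a0dfbb6ecd7ab4e8cf9b2e4c78b0e0fffbefcf7ebcf8efdbaf4e7cb8f09f3a6cc972a4c88f1a2c4870a0c0bf7aedcb76acd8af5aad4a74a8d05eb96ac56a94a84e992a446890a07ef9ebc76e9cb86ed9ab466c98b01e3868c16284880e1828406080803e78e9c3668c982e58a9426488906ed9ab466c98b07ef9ebc76e9cb8cf9b2e4c78b0e0dfbb6ecd7ab4e82e58a9426488903e78e9c3668c988f1a2c4870a0c09f3a6cc972a4c8efdbaf4e7cb8f0fffbefcf7ebcf84e992a446890a05eb96ac56a94a8af5aad4a74a8d0bf7aedcb76acd80e18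28406080801e3868c162848876e9cb87ef9ebca74a8d0af5aad416284881e3868cc78b0e0cf9b2e43668c983e78e9ce7cb8f0efdbaf456a94a85eb96ac870a0c08f1a2c4f7ebcf8fffbefc26488902e58a94972a4c89f3a6cc46890a04e992a4b76acd8bf7aedc66c98b06ed9ab4d7ab4e8dfbb6ec06080800e182844a913a6f3e3dfadbb37eee3c39f2ebd3bf652a15aa7af1fbe42811a28b123c63260d9a1a3078e22409922a50b9693225cabb72fde83021c2cb933e672e1dba5ab17ae62c19b26ad1bb6d3a35eafbf3ffec3831e20a10386b362dda9b327cea3429d2ab52bd6122058a3a70f9e0200182eddce1da54ec59fdfca15b56e8518d1d62dc58f4699d3d225d5af061ad5de3de5cfc79bd7da35f5ef871cd9c60d850e449ddbc205952e0416cdee5d244cc197cfea55346c8110c1f66d448d4291c3f26554ad0212c5fe7d64cdc393c7fa7574ed8314c9e64d040c4095cbe245142c001,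
  0x4542333255e0333345005111550051214542313155e03131450055145500542f4542333255e0333345005111550051214542313155e03131450055145500542f, [64]⟩

theorem dM122_ok : dM122.Ok := PcD.ok_spec _ (by decide +kernel)

namespace GM12

/-- the mask of the subgroup of index two -/
def K : ℕ := 0x55555555555555555555555555555555

theorem K_lam : lamOk dM122 1 K = true := by decide +kernel

/-- the group -/
abbrev H : Subgroup (Equiv.Perm GolayPt) := Pr 340831 16436384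

/-- the codes of the generators of the Sylow subgroup -/
def X : ℕ → ℕ := get 120 0x99634bc2b27b92c59da6522c0188249da2fbcab0a2d21729a63a0a410d80996aebc2325d1237a9a839ac4604408aa6ba92e073cc3a59092b4f2604508da6fac2f2a390c59ccd524a410c203d6ce520a65d0017cc92bc22910d8d441a2315361b2ae0823724e477d16a

theorem ex : ∃ x, (mPr 340831 16436384).RX dM122 X x := Mdl.exists_RX (W := fun _ => 0) (by decide +kernel)

/-- the generators -/
noncomputable def x : ℕ → H := Classical.choose ex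

theorem hx : (mPr 340831 16436384).RX dM122 X x := Classical.choose_spec ex

theorem hN (g : Equiv.Perm GolayPt) :
    g ∈ Spor.M12 ↔ g ∈ M24 ∧ g • fin 340831 = fin 340831 ∧ g • fin 16436384 = fin 16436384 := by
  have h1 : fin 16436384 = (fin 340831)ᶜ := by decide +kernel
  rw [h1, ← squareDodecad_eq_fin]
  refine ⟨fun h => ⟨h.1, h.2, ?_⟩, fun h => ⟨h.1, h.2.1⟩⟩
  have h2 : g • Spor.squareDodecad = Spor.squareDodecad := h.2
  ext p
  rw [← Finset.inv_smul_mem_iff, Finset.mem_compl, Finset.mem_compl, Finset.inv_smul_mem_iff, h2]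

theorem all : Base dM122 H x K ∧ Nat.card H = 95040 * 2 ∧ (Spor.M12.subgroupOf H).index = 2 ∧
    ∀ a, a < 128 → (el x 7 a ∈ Spor.M12.subgroupOf H ↔ ¬ (0 < 7 ∧ tb a 0 = true)) :=
  base_pr hN H882.Grp.simple12 MTwelveType.SylowModel.card_M12 (m := 1485) rfl (by norm_num) (by norm_num) hx dM122_ok (by decide +kernel)
    (l := [⟨64, 4, 28, 0x4c06033c540b225222e76aa555d9d3, 0, 0x2184d82c6e604b14c8f704d167d68a, 0⟩]) (by decide +kernel) (z := 64) (by decide +kernel) (by decide +kernel)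

theorem base : Base dM122 H x K := all.1

theorem card : Nat.card H = 190080 := all.2.1

theorem rz : Rz2 ⟨dM122, 1, 0⟩ H x := base.rz2 K_lam

end GM12

end Cfsg.Agent.FS.N.Sq
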