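import Cfsg.Agent.FS.N.Sq.Gen
import Cfsg.Agent.FS.N.M.Cert
import Cfsg.Agent.FS.Real.Tab
import Cfsg.Agent.SporadicA.J2Hundred

/-!
# S5288, models: `J₂.2` (helper83; the data are generated)
-/

set_option autoImplicit false
set_option maxRecDepth 100000

namespace Cfsg.Agent.FS.N.Sq

open Cfsg Subgroup Cfsg.Agent.FS.Real Cfsg.Agent.FS.N.M

/-- the mask of the subgroup of type `J₂` -/
def K8 : ℕ := 0xff00ff00ff00ff00ff00ff00ff00ff00ff00ff00ff00ff00ff00ff00ff00ff

theorem K8_ok : ixOk dLy 3 K8 128 = true := by decide +kernel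

theorem K8_lam : lamOk dLy 8 K8 = true := by decide +kernel

theorem beq_false {a b : ℕ} (h : a ≠ b) : Nat.beq a b = false := by
  cases e : Nat.beq a b
  exacts [rfl, absurd (beq_eq e) h]

/-- the number of moved points -/
noncomputable def mov (w n c : ℕ) : ℕ := Nat.rec 0 (fun k r => bif Nat.beq (get w c k) k then r else r + 1) n

theorem mov_eq (w c : ℕ) : ∀ n, mov w n c = ∑ k ∈ Finset.range n, if get w c k = k then 0 else 1
  | 0 => rfl
  | n + 1 => by
    rw [Finset.sum_range_succ, ← mov_eq w c n, show mov w (n + 1) c =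
      bif Nat.beq (get w c n) n then mov w n c else mov w n c + 1 from rfl]
    cases h : Nat.beq (get w c n) n
    · rw [if_neg (Nat.ne_of_beq_eq_false h), cond_false]
    · rw [if_pos (beq_eq h), cond_true, Nat.add_zero]

theorem card_support {w n c : ℕ} {hn : n ≤ 2 ^ w} {g : Equiv.Perm (Fin n)} (h : (mSym w n hn).R c g) :
    g.support.card = mov w n c := by
  rw [mov_eq, ← Fin.sum_univ_eq_sum_range (fun k => if get w c k = k then 0 else 1), Equiv.Perm.support,
    Finset.card_filter]
  refine Finset.sum_congr rfl fun p _ => ?_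
  have h1 : ((g p : Fin n) : ℕ) = get w c p := h p
  rw [← h1, ite_not]
  simp only [Fin.val_inj]

namespace GJ2

open Cfsg.Agent.SporadicA.PermTab (InG two_mul_card_le autG)
open Cfsg.Agent.SporadicA.PermRank3 Cfsg.Agent.SporadicA.J2Data Cfsg.Agent.SporadicA.J2Hundred

/-- the group -/
abbrev H : Subgroup (Equiv.Perm (Fin 100)) := autG 100 adj

theorem card : Nat.card H = 1209600 := by
  refine le_antisymm card_aut_le ?_
  have := two_mul_card_le aut_le sign_G pT_mem sign_T
  rw [card_G] at this
  omega

theorem G_eq : G = H ⊓ (Equiv.Perm.sign : Equiv.Perm (Fin 100) →* ℤˣ).ker := by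
  have h2 := two_mul_card_le (G := H ⊓ (Equiv.Perm.sign : Equiv.Perm (Fin 100) →* ℤˣ).ker) (A := H) inf_le_left
    (fun g hg => hg.2) pT_mem sign_T
  rw [card] at h2
  exact eq_of_le_of_card_ge (fun g hg => ⟨aut_le hg, sign_G g hg⟩) (by rw [card_G]; omega)

/-- the model of the symmetric group -/
noncomputable abbrev MM : Mdl (Equiv.Perm (Fin 100)) := mSym 11 100 (by decide)

theorem up {c : ℕ} (e : InG G c) : ∃ y ∈ G, MM.R c y := by
  obtain ⟨g, h1, h2⟩ := e
  exact ⟨g, h1, fun p => (h2 p).trans (Nat.and_two_pow_sub_one_eq_mod _ 11)⟩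

/-- the generators of the simple group -/
def gt (i : ℕ) : ℕ := [tA, tB, tC, tD, tE, u0, u1, v0, v1, w0].getD i tA

theorem hg : ∀ i, ∃ y ∈ G, MM.R (gt i) y := getD_all (Pr := fun c => ∃ y ∈ G, MM.R c y) (up inA) (by
  simp only [List.forall_mem_cons]
  exact ⟨up inA, up inB, up inC, up inD, up inE, up inu0, up inu1, up inv0, up inv1, up inw0, fun _ h => (nomatch h)⟩)

theorem hT : MM.R tT pT := fun _ => Nat.and_two_pow_sub_one_eq_mod _ 11

/-- the model -/
noncomputable def M : Mdl H :=
  subM MM H (fun a w => force (wv MM gt 16 w) fun c => Nat.beq a c || Nat.beq a (MM.mul tT c)) fun a w h => by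
    obtain ⟨y, h1, h2⟩ := in_wv hg 16 w
    rw [force_eq, Bool.or_eq_true] at h
    rcases h with h | h <;> rw [beq_eq h]
    exacts [⟨y, aut_le h1, h2⟩, ⟨pT * y, mul_mem pT_mem (aut_le h1), MM.R_mul hT h2⟩]

/-- the codes of the generators of the Sylow subgroup -/
def X : ℕ → ℕ := get 1100 0x400d82f00b0be1841101f0b60dc2c8140781300085403a148278060a203c108560261281901800006814844048094208150680f8168570360a8160380b41881a83f0101240183005e0441e8390240e82280e04e0982104303c174268630b808c298090761180b848032058200580960ac1701009c0a00200c0c001c0e0330141400280d0620082a84709a1001f81b0be0d0090110b60b42c8580380380402703a14819048092138318280341282785003204c0504408410c208620c20f81b8090160a81c83807a0540b05e0021441883004c07c2d02c0440e80384c0a80bc1202503c0ac1002105c08c298570c012c238060000d41b01408c1742e01001e158020050761141e0550520600600d006008198170381200905a0b60ac1a0330be02c208030420900882701a1480d01508c0b02b8430921280983600e1440c8440ac0382c8500ba0e00d84d07a08c2703e0c00601a82203e12c2c01005e1541d80f0c20780b8420a80981404c0540fc1e0090100e80202005a1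3c1486208a05803031064178008300720940e80506e11c3185c000100060530280081700a0101681204802010c070090601881c03905c0482680c0741281481b08a0c42a82b08e1480506009605c278020bc0d01f02d04a1040a81100c14c2c05906c0dc1784204001c2705b06a15c200140980742882200a0581f8610080a0008330380341501f0a00640d00b08c0981e82c0001581e05f0061740f0540301242e0630640ec1382301e110108130381882b06007c130128080700dc1803a04218417005058148038500140341e05e02e12814818034000190020240880801505017c1e84d0361600e85b0b40d81a80e03e1141185905e154168530480502483f0180982e82b0621082b80906600c1c86307611c098480960582002a03210c008410080d02702701613c1005c0a20182a00f03c1100884605a004038090600280b81802018c1c0580160680a8050081482101f04a03c2d0460ac1281202e0440a02f0440a20c81f033052104108600ae08c16059040154178450c410c1885f02c1402683908e078308130180d42484f0540641b83d0900e80683b07803815811024098040140980000305b09c12c298540380d00d83607e1701381d0060082005d0c61881903d0b6124230550be06c2c8230781142e0540721481a00607e034108290241282f0480841742b00202e11c2081509e0e03005706e0c42983e0760d81a8510221841d03004c0200581d02600c2600a04e0bc000190b0068268200020501601c0b4088120180860582001e05612c1981000801c2700c05a0a00482e01c1400280f0541100f8250ba12c048450600703182402011c2080f0681542b02f0081100c049090050090010c40082804f0b40543005203e0b82c81a0780e00b83f00e08c0183e00004c060570500181605f0a81080c8310420780583304c09c0885c074080158220860a80685e0141001685107a0142304e06c1341285b0b00200e83505206c3080e0760c80b05307212826037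

/-- the words -/
def W : ℕ → ℕ := get 64 0x19988785688290001998785978049000001998796560400019998999585240000179895859199000199989765639500000000001991990000019997568029

theorem words : (allB 8 fun i => Nat.beq (X i)
    (bif Nat.beq i 3 then MM.mul tT (wv MM gt 16 (W i)) else wv MM gt 16 (W i))) = true := by decide +kernel

theorem ex : ∃ x, M.RX dLy X x := Mdl.exists_RX (W := W) (by decide +kernel)

/-- the generators -/
noncomputable def x : ℕ → H := Classical.choose ex

theorem hx : M.RX dLy X x := Classical.choose_spec ex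

theorem rels : M.rels dLy X = true := by decide +kernel

theorem cores : M.cores dLy X [⟨128, 2, 64,
    0x420f01e800040180260110c60e8290130040680404a0320400202601e14c1f022092014168400141142e80903e0381a85f01a120210440540dc2181806215c0604e09e02c0d84106c144238170640ec2305802c188038010240a41c04d06612c120060061582e0150aa0c02d82b0bc1841a05407208c1602704a0782803f0280bc2c81d0b407017028, 0x19988856181,
    0x540740d01802812c2b8120b00b82f82904e0941105b02a1281d835016154028240ac1102300409a0242180f0a2080180260360c4280540221843100303e14c0106008e04c1a038058000240400980fc2105a0200e4108320140700603a0ba1141b0230b80f02780d0921481780701c0a00b8590100b41984100c0f40f01906e0581f0010bc13815863, 0x178879568045⟩] = true := by decide +kernel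

theorem val (i : ℕ) (hi : i < 8) : ∃ y ∈ G, (x i : Equiv.Perm (Fin 100)) = bif Nat.beq i 3 then pT * y else y := by
  obtain ⟨y, h1, h2⟩ := in_wv hg 16 (W i)
  have h3 : MM.R (X i) (x i) := hx i hi
  rw [beq_eq (allB_spec words hi)] at h3
  refine ⟨y, h1, ?_⟩
  revert h3
  cases Nat.beq i 3
  exacts [fun h3 => MM.eq_of h3 h2 (Nat.beq_refl _), fun h3 => MM.eq_of h3 (MM.R_mul hT h2) (Nat.beq_refl _)]

theorem base : Base dLy H x K8 := by
  obtain ⟨S, J⟩ := hx.gen dLy_ok rels
  have := simple
  have k : ∀ g : H, g ∈ G.subgroupOf H ↔ Equiv.Perm.sign (g : Equiv.Perm (Fin 100)) = 1 := fun g => by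
    rw [mem_subgroupOf, G_eq]
    exact ⟨fun h => h.2, fun h => ⟨g.2, h⟩⟩
  refine base_ix J (odd_index J (m := 4725) card (by norm_num)) (N := G.subgroupOf H) (fun g h h1 h2 => ?_) ?_
    (fun i hi e => ?_) ?_ K8_ok (hx.cores cores)
  · rw [k] at h1 h2 ⊢
    rw [coe_mul, map_mul, (Int.units_eq_one_or _).resolve_left h1, (Int.units_eq_one_or _).resolve_left h2]
    rfl
  · rw [← inclusion_range aut_le]
    exact range_le (pResidual_eq_top (r := 3) (by norm_num) (by norm_num) (by rw [card_G]; norm_num)) _
  · obtain ⟨y, h1, h2⟩ := val i hi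
    rw [mem_subgroupOf, h2, beq_false e]
    exact h1
  · obtain ⟨y, h1, h2⟩ := val 3 (by decide)
    rw [k, h2]
    show ¬ Equiv.Perm.sign (pT * y) = 1
    rw [map_mul, sign_T, sign_G y h1]
    decide

theorem rz : Rz2 ⟨dLy, 8, 0⟩ H x := base.rz2 K8_lam

theorem movs : (Nat.beq (mov 11 100 (M.elc X 8 128)) 80 && allB 256 fun b =>
    force (M.elc X 8 b) fun c => !Nat.beq (mov 11 100 c) 80 || [2, 64, 86, 98, 118, 128, 130, 192, 214, 226, 246].any (Nat.beq b)) = true := by
  decide +kernel

/-- the conjugates of the central involution -/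
theorem neg (b : ℕ) (hb : b < dLy.N) (h : IsConj (el x dLy.n 128) (el x dLy.n b)) :
    b ∈ [2, 64, 86, 98, 118, 128, 130, 192, 214, 226, 246] := by
  have h1 := movs
  rw [Bool.and_eq_true] at h1
  have h2 := allB_spec h1.2 hb
  obtain ⟨g, hg⟩ := isConj_iff.1 h
  have h3 := Equiv.Perm.card_support_conj (σ := (g : Equiv.Perm (Fin 100))) (τ := (el x dLy.n 128 : H))
  have k : ∀ a, ((el x dLy.n a : H) : Equiv.Perm (Fin 100)).support.card = mov 11 100 (M.elc X 8 a) := fun a =>
    card_support (hn := by decide) (hx.el a)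
  rw [← coe_inv, ← coe_mul, ← coe_mul, hg, k, k] at h3
  rw [force_eq, Bool.or_eq_true, List.any_eq_true] at h2
  rcases h2 with h2 | ⟨c, h4, h5⟩
  · exact absurd (h3.trans (beq_eq h1.1)) (nbeq_ne h2)
  · exact beq_eq h5 ▸ h4

end GJ2

end Cfsg.Agent.FS.N.Sq
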