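import Cfsg.Agent.FS.N.Sq.J2
import Cfsg.Agent.KFacts.J3
import Cfsg.Agent.H55.JThreeOut

/-!
# S5288, models: `J₃.2` as the extension of `3·J₃` by the semilinear involution (helper83; the data are generated)
-/

set_option autoImplicit false
set_option maxRecDepth 100000

namespace Cfsg.Agent.FS.N.Sq

open Cfsg Subgroup Cfsg.Agent.FS.Real Cfsg.Agent.FS.N.M

namespace GJ3

open Cfsg.Spor Cfsg.Agent.J3.Core Cfsg.Agent.J3.Tab Cfsg.Agent.J3.Elts Cfsg.Agent.H55.JThree Cfsg.Agent.KFacts.J3W Matrix

/-- the table of a code -/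
def toL (c : ℕ) : List ℕ := (List.range 18).map (Real.get 18 c)

theorem toL_lt (c : ℕ) : ∀ t ∈ toL c, t < 2 ^ 18 := fun t ht => by
  obtain ⟨k, -, rfl⟩ := List.mem_map.1 ht
  exact get_lt _ _ _

/-- the product of codes -/
noncomputable def cm (a b : ℕ) : ℕ := force a fun a => force b fun b => pack 18 18 fun k => appT (toL a) (Real.get 18 b k)

/-- different codes -/
noncomputable def cn (a b : ℕ) : Bool :=
  force a fun a => force b fun b => anyB 18 fun k => !Nat.beq (Real.get 18 a k) (Real.get 18 b k)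

theorem toL_cm (a b : ℕ) : toL (cm a b) = compT (toL a) (toL b) := by
  unfold cm compT
  rw [force_eq, force_eq]
  conv_rhs => unfold toL
  rw [List.map_map]
  exact List.map_congr_left fun k hk => get_pack (fun _ => appT_lt (toL_lt a) _) _ (List.mem_range.1 hk)

theorem getD_toL (c : ℕ) {k : ℕ} (hk : k < 18) : (toL c).getD k 0 = Real.get 18 c k := by
  unfold toL
  rw [List.getD_eq_getElem _ _ (by simpa using hk), List.getElem_map, List.getElem_range]

/-- the code of the semilinear involution -/
def tau : ℕ := 0x300004000c000100000c000100000c000100030000400003000040000300004000c000100000c0001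

section

variable {F : Type} [Field F] {ω : F}

/-- the semilinear involution -/
def sl (v : F9 → F) : F9 → F := fun z => v (cj z) ^ 2

theorem sl_add (H : Good ω) (v w : F9 → F) : sl (v + w) = sl v + sl w :=
  funext fun _ => (frob H).map_add _ _

theorem sl_single (z : F9) (a : F) : sl (Pi.single z a) = Pi.single (cj z) (a ^ 2) := by
  funext w
  unfold sl
  by_cases h : w = cj z
  · rw [h, cj_cj, Pi.single_eq_same, Pi.single_eq_same]
  · rw [Pi.single_eq_of_ne h, Pi.single_eq_of_ne fun e => h (by rw [← e, cj_cj]), zero_pow two_ne_zero]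

theorem tau_get : ∀ z : F9, Real.get 18 tau (2 * idx z) = 2 ^ (2 * idx (cj z)) ∧
    Real.get 18 tau (2 * idx z + 1) = 2 ^ (2 * idx (cj z)) ^^^ 2 ^ (2 * idx (cj z) + 1) := by decide +kernel

theorem sl_dec (H : Good ω) : ∀ k, k ≤ 18 → ∀ n, n < 2 ^ k → sl (dec ω n) = dec ω (appT (toL tau) n)
  | 0, _, n, hn => by
    obtain rfl : n = 0 := by omega
    rw [appT_zero, dec_zero]
    exact funext fun _ => zero_pow two_ne_zero
  | k + 1, hk, n, hn => by
    rcases Nat.lt_or_ge n (2 ^ k) with h | h
    · exact sl_dec H k (by omega) n h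
    obtain ⟨m, rfl⟩ := Nat.exists_eq_add_of_le h
    have hm : m < 2 ^ k := by
      rw [pow_succ] at hn
      omega
    have h1 : 2 ^ k + m = 2 ^ k ^^^ m := by
      refine Nat.eq_of_testBit_eq fun j => ?_
      rw [Nat.testBit_xor, Nat.testBit_two_pow]
      rcases lt_trichotomy j k with h2 | rfl | h2
      · rw [Nat.testBit_two_pow_add_gt h2, decide_eq_false h2.ne', Bool.false_xor]
      · rw [Nat.testBit_two_pow_add_eq, Nat.testBit_lt_two_pow hm, decide_eq_true rfl]
        rfl
      · rw [Nat.testBit_lt_two_pow (hn.trans_le (Nat.pow_le_pow_right two_pos h2)), decide_eq_false h2.ne,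
          Nat.testBit_lt_two_pow (hm.trans_le (Nat.pow_le_pow_right two_pos h2.le))]
        rfl
    rw [h1, dec_xor H, sl_add H, appT_xor, dec_xor H, sl_dec H k (by omega) m hm, appT_two_pow, getD_toL _ hk]
    congr 1
    obtain ⟨z, rfl | rfl⟩ := exists_idx k hk
    · rw [(tau_get z).1, dec_two_pow, dec_two_pow, sl_single, one_pow]
    · rw [(tau_get z).2, dec_xor H, dec_two_pow_succ, dec_two_pow, dec_two_pow_succ, sl_single, H.sq, Pi.single_add]

theorem phiM_sl (H : Good ω) (A : Matrix F9 F9 F) (v : F9 → F) : phiM H A *ᵥ sl v = sl (A *ᵥ v) := by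
  funext w
  show ∑ z, A (cj w) (cj z) ^ 2 * v (cj z) ^ 2 = frob H (∑ z, A (cj w) z * v z)
  rw [map_sum]
  exact Fintype.sum_equiv cjE _ _ fun z => (mul_pow _ _ _).symm

theorem rep_phi [Fintype F] (hF : Fintype.card F = 4) (H : Good ω) {a : ℕ} {g : threeJ3 F ω} (h : RepG ω (toL a) g) :
    RepG ω (toL (cm tau (cm a tau))) (phi hF H g) := by
  refine ⟨toL_lt _, fun n hn => ?_⟩
  have h1 := appT_lt (toL_lt tau) n
  have h2 : dec ω n = sl (dec ω (appT (toL tau) n)) := by
    rw [← sl_dec H 18 le_rfl n hn]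
    funext z
    show _ = frob H (frob H (dec ω n (cj (cj z))))
    rw [frob_frob hF, cj_cj]
  rw [toL_cm, toL_cm, appT_compT, appT_compT, mat_phi, h2, phiM_sl, h.2 _ h1,
    sl_dec H 18 le_rfl _ (appT_lt (toL_lt a) _)]

/-- the model of `3·J₃` without generators -/
noncomputable def M0 (H : Good ω) : Mdl (threeJ3 F ω) where
  R c g := RepG ω (toL c) g
  mul := cm
  one := 0x800010000200004000080001000020000400008000100002000040000800010000200004000080001
  eqv := Nat.beq
  neq := cn
  ok _ _ := false
  R_one := by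
    rw [show toL 0x800010000200004000080001000020000400008000100002000040000800010000200004000080001 = tS 0 by decide +kernel]
    exact repG_one H
  R_mul := fun h k => by
    rw [toL_cm]
    exact h.mul k
  eq_of := fun h k e => h.ext k (by rw [beq_eq e])
  ne_of := by
    intro a b g h ha hb e e'
    rw [cn, force_eq, force_eq] at e
    obtain ⟨k, hk, h1⟩ := anyB_spec e
    have h2 : 2 ^ k < 2 ^ 18 := Nat.pow_lt_pow_right one_lt_two hk
    refine nbeq_ne h1 ?_
    rw [← getD_toL _ hk, ← getD_toL _ hk, ← appT_two_pow, ← appT_two_pow]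
    exact dec_injOn H (appT_lt (toL_lt a) _) (appT_lt (toL_lt b) _) (by rw [← ha.2 _ h2, ← hb.2 _ h2, e'])
  ex_of := fun h => nomatch h

/-- the codes of generators of the centralizer of an involution -/
def gt (i : ℕ) : ℕ := Real.get 324 0x8000100020000400002000040200004000800010000080001000000200004000800010000080001339e489e74279f079e09c001e006c46f6336b70b5b81bd0202c040638834910b24218704d1c0ace01881b110d82c010600c90ef5c26b0234004b004ae03164c98f61d2b8752d3bc67498fb1d20c35820bd40003000010000c0000c0002000010000c00004000300003000080000c000200003000080000800019391dc9cee254e47f20be741a7b66c1f760eb584dbd32f82d6906f3cda4a2d7c73a638975d7fbefa9bd8c5ad236ec37660b582dfd06ee27c647a393b35c98b0967c1f7a453af3c961c5ace3d6f7d5abafdb98899d116ac2b5605a82d9506de268a475193a29c9450aa781579863a934952c9a861d5aaaa95555a08014100a20014400002a00054228004500828010500080a01014082801050082201044000080001228004500a08014100082801050828010500a20014400082201044080a01014002a00054000080001 (i % 9)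

theorem gt_eq : (∀ i : Fin 5, toL (gt i) = J3.Tab.get [] vTs i) ∧ (∀ i : Fin 3, toL (gt (i + 5)) = J3.Tab.get [] cTs i) ∧
    toL (gt 8) = bT 24 := by decide +kernel

theorem hg [Fintype F] (hF : Fintype.card F = 4) (H : Good ω) (i : ℕ) : ∃ y ∈ (⊤ : Subgroup _), (M0 H).R (gt i) y := by
  obtain ⟨G⟩ := exists_gens hF H
  have h1 : gt i = gt (i % 9) := by
    unfold gt
    rw [Nat.mod_mod]
  have h2 : i % 9 < 9 := Nat.mod_lt _ (by norm_num)
  rw [h1]
  generalize i % 9 = k at h2
  show ∃ y ∈ (⊤ : Subgroup _), RepG ω (toL (gt k)) y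
  rcases Nat.lt_or_ge k 5 with h3 | h3
  · exact ⟨_, mem_top _, gt_eq.1 ⟨k, h3⟩ ▸ rep_v (G := G) H ⟨k, h3⟩⟩
  obtain ⟨k, rfl⟩ := Nat.exists_eq_add_of_le' h3
  rcases Nat.lt_or_ge k 3 with h4 | h4
  · exact ⟨_, mem_top _, gt_eq.2.1 ⟨k, h4⟩ ▸ rep_c (G := G) H h4⟩
  · obtain rfl : k = 3 := by omega
    exact ⟨_, mem_top _, gt_eq.2.2 ▸ rep_z (G := G) H⟩

/-- the model of `3·J₃` -/
noncomputable def M1 [Fintype F] (hF : Fintype.card F = 4) (H : Good ω) : Mdl (threeJ3 F ω) :=
  { M0 H with
    ok := fun a w => Nat.beq a (wv (M0 H) gt 16 w)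
    ex_of := fun {_ w} h => by
      obtain ⟨y, -, h2⟩ := in_wv (hg hF H) 16 w
      exact ⟨y, by rw [beq_eq h]; exact h2⟩ }

theorem phi_sq [Fintype F] (hF : Fintype.card F = 4) (H : Good ω) : phi hF H * phi hF H = 1 :=
  MulEquiv.ext fun _ => Subtype.ext (phiG_phiG hF H _)

theorem phi_ne [Fintype F] (hF : Fintype.card F = 4) (H : Good ω) : phi hF H ≠ 1 := fun e => by
  obtain ⟨y, -, h⟩ := hg hF H 5
  refine (M0 H).ne_of (a := cm tau (cm (gt 5) tau)) (rep_phi hF H h) h
    (show cn (cm tau (cm (gt 5) tau)) (gt 5) = true by decide +kernel) ?_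
  rw [e]
  rfl

end

/-- the field -/
abbrev F4 : Type := GaloisField 2 2

theorem exw : ∃ ω : F4, Good ω := by
  obtain ⟨ω, hω⟩ := exists_omega
  have h2 : (2 : F4) = 0 := CharP.cast_eq_zero F4 2
  exact ⟨ω, by linear_combination h2, by linear_combination hω + (ω + 1) * h2⟩

/-- the root of unity -/
noncomputable def w : F4 := Classical.choose exw

theorem hw : Good w := Classical.choose_spec exw

/-- the enumeration of the field -/
@[reducible] noncomputable def ft : Fintype F4 := Fintype.ofFinite _

attribute [local instance] ft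

theorem hF : Fintype.card F4 = 4 := by
  rw [← Nat.card_eq_fintype_card]
  exact GaloisField.card 2 2 (by norm_num)

/-- the group -/
abbrev G : Type := Ext (phi hF hw)

/-- the model -/
noncomputable def M : Mdl G := semi (M1 hF hw) (phi_sq hF hw) (fun a => cm tau (cm a tau)) fun _ _ h => rep_phi hF hw h

theorem card : Nat.card G = 301397760 := by
  rw [card_ext (phi_ne hF hw) (phi_sq hF hw), J3.Order.card_threeJ3 hF hw]

theorem fin : Finite G := Nat.finite_of_card_ne_zero (by rw [card]; norm_num)

/-- the codes of the generators of the Sylow subgroup -/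
def X : ℕ → ℕ := Real.get 325 0x800010002000040000200004020000400080001000008000100000020000400080001000008000151000a20041400828004110082250400a08011400228004140082800150002a04050080a000040000b210a84c146c22360440a36014b4c48a2311503a2c0946801e500e638424930492c21c606aaaa55554673c913ce84f3e0f3c138003c00d88dec66d6e16b7037a04058080c71069221648430e09a38159c0215a3cfd4acee462673da802d500e8f16528f991cddce2a1e014e403048083104302308047340b8b0188d1066a23cb05cfa082434189aadb05eda0cc840ee08400cc806e935243ab8d508caa66951542a2aa4ecd7262f89f191e8c259f07de9bb0dd982ef6316b48d60b7f41b8716b38f5914ebcf25bdf56aebf5761bb305cc8976e63360403008084bd60fca674f912f4170003200c38469c09a49058e20c48168e02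

theorem ex : ∃ x, M.RX dLy X x :=
  Mdl.exists_RX (W := Real.get 32 0x1800000108000001210000001700001171000011740000013800157558) (by decide +kernel)

/-- the generators -/
noncomputable def x : ℕ → G := Classical.choose ex

theorem hx : M.RX dLy X x := Classical.choose_spec ex

theorem rels : M.rels dLy X = true := by decide +kernel

theorem facts : pResidual 2 (threeJ3 F4 w) = ⊤ ∧ One (⊤ : Subgroup (threeJ3 F4 w)) := by
  have : Finite (threeJ3 F4 w) := Nat.finite_of_card_ne_zero (by rw [J3.Order.card_threeJ3 hF hw]; norm_num)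
  obtain ⟨_, z, Q, v, ρ, n, u, H⟩ := KFacts.J3.exists_facts (isoJ3 hF hw.om)
  exact cov3 (J3.Nineteen.card_center hF hw)
    (pResidual_eq_top (r := 3) (by norm_num) (by norm_num) (by rw [H.card_K]; norm_num))
    fun a _ b _ a1 a2 b1 b2 => (isConj_iff.2 (H.one a a1 a2)).symm.trans (isConj_iff.2 (H.one b b1 b2))

theorem bits : (allB 8 fun i => Nat.beq i 3 || !Nat.beq (X i % 2) 1) = true := by decide +kernel

theorem inner (i : ℕ) (hi : i < dLy.n) (e : i ≠ 3) : x i ∈ Inn (phi hF hw) := by
  have h := allB_spec bits hi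
  rw [beq_false e, Bool.false_or, Bool.not_eq_true'] at h
  exact (semi_mem (phi_ne hF hw) (hx i hi)).2 h

theorem outer : x 3 ∉ Inn (phi hF hw) := fun h =>
  absurd ((semi_mem (phi_ne hF hw) (hx 3 (by decide))).1 h) (by decide +kernel)

/-- the involutions of the subgroup of index two -/
def I8 : List ℕ := [1, 2, 16, 17, 21, 37, 48, 64, 65, 80, 81, 85, 86, 98, 101, 112, 118, 128, 129, 130, 144, 145, 149, 165, 176, 192, 193, 208, 209, 213, 214, 226, 229, 240, 246]

/-- the conjugates of the central involution -/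
theorem pos (a : ℕ) (ha : a ∈ I8) : a < dLy.N ∧ IsConj (el x dLy.n 128) (el x dLy.n a) := by
  obtain ⟨S, J⟩ := hx.gen dLy_ok rels
  exact (facts.2.map _ SemidirectProduct.inl_injective).conj J inner outer (l := I8) (by decide +kernel) (by decide) ha

theorem base : Base dLy G x K8 := by
  have := fin
  obtain ⟨S, J⟩ := hx.gen dLy_ok rels
  refine base_ix J (odd_index J (m := 1177335) card (by norm_num)) (inn_mul (phi_sq hF hw)) (range_le facts.1 _)
    inner outer K8_ok fun z hz => ?_
  obtain rfl : z = 128 := List.mem_singleton.1 hz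
  exact ⟨1, 2, by decide, by decide, (pos 1 (by decide)).2, (pos 2 (by decide)).2, by decide +kernel⟩

theorem rz : Rz2 ⟨dLy, 8, 0⟩ G x := base.rz2 K8_lam

end GJ3

theorem sep_J3_J2 : Sep dLy GJ3.x GJ2.x :=
  sep_count (z := 128) rfl (by decide +kernel) (by decide) GJ3.pos GJ2.neg (by decide)

theorem nt_J3_J2 : NT dLy GJ3.x GJ2.x := nt_of_sep sep_J3_J2

end Cfsg.Agent.FS.N.Sq
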