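import Cfsg.Agent.FS.N.Sq.J2
import Cfsg.Agent.FS.Real.Cov
import Cfsg.Agent.TypeM.McLFromLy
import Cfsg.Agent.TypeM.FactsLy
import Cfsg.Agent.S0477

/-!
# S5288, models: `McL.2` as the normalizer `3·McL:2` of a subgroup of order three of `Ly` (helper83; the data are generated)
-/

set_option autoImplicit false
set_option maxRecDepth 100000

namespace Cfsg.Agent.FS.N.Sq

open Cfsg Subgroup Cfsg.Agent.FS.Real Cfsg.Agent.FS.N.M

/-- the mask of the subgroup of type `M₂₂` -/
def K2 : ℕ := 0x3333333333333333333333333333333333333333333333333333333333333333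

theorem K2_ok : ixOk dLy 1 K2 128 = true := by decide +kernel

theorem K2_lam : lamOk dLy 2 K2 = true := by decide +kernel

/-- the elements which centralize or invert `y` -/
def Ex {Γ : Type} [Group Γ] (y : Γ) : Subgroup Γ where
  carrier := {g | g * y * g⁻¹ = y ∨ g * y * g⁻¹ = y⁻¹}
  one_mem' := Or.inl (by simp)
  mul_mem' := by
    intro g h hg hh
    have e : g * h * y * (g * h)⁻¹ = g * (h * y * h⁻¹) * g⁻¹ := by group
    have e' : g * y⁻¹ * g⁻¹ = (g * y * g⁻¹)⁻¹ := by group
    show _ ∨ _
    rw [e]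
    rcases hh with hh | hh <;> rw [hh]
    · exact hg
    · rw [e']
      exact hg.symm.imp (fun k => by rw [k, inv_inv]) fun k => by rw [k]
  inv_mem' := by
    intro g hg
    refine hg.imp (fun k => ?_) fun k => ?_
    · conv_lhs => rw [← k]
      group
    · conv_lhs => rw [← inv_inv y, ← k]
      group

theorem le_Ex {Γ : Type} [Group Γ] (y : Γ) : centralizer {y} ≤ Ex y := fun _ h =>
  Or.inl (by rw [mem_centralizer_singleton_iff.1 h, mul_inv_cancel_right])

namespace GMc

open Cfsg.Spor (Ly)
open Cfsg.Agent.TypeM Cfsg.Agent.TypeM.Two Cfsg.Agent.TypeM.CoverTools Cfsg.Agent.TypeM.McLFromLy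

theorem fin0 : Finite Ly := Ly.Setup.finite_ly

open Cfsg.Agent.Ly in
theorem exL : ∃ L : MT 11 Ly, ∀ y : centralizer ({L.t} : Set Ly), y ^ 3 = 1 → (L.K.π y).support.card = 3 →
    pResidual 2 (centralizer ({(y : Ly)} : Set Ly)) = ⊤ ∧ One (⊤ : Subgroup (centralizer ({(y : Ly)} : Set Ly))) := by
  have := fin0
  obtain ⟨h1, h2, h3, h4⟩ := McL.Main.main Index.data Pres.closure_gens Setup.card_ly
    (McL.ClassX.card_centralizer_x_le T1.card_Hhat)
  have hx := McL.Main.order_x' Index.data Pres.closure_gens Setup.card_ly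
  generalize Mat7.ev (WalkCtx.X4 Pres.gens) McL.Data.xw = u at h1 h2 h3 h4 hx
  obtain ⟨L⟩ := FactsLy.exists_mt_ly
  obtain ⟨s, K, hK⟩ := exists_two_eight L hx h1 h2
  obtain ⟨L8, -⟩ := exists_mt (n := 8) (by norm_num) (by norm_num) s (by rw [← hK, orderOf_coe, K.orderOf_z])
    (isNonsplit_of_cover K (by norm_num))
  obtain ⟨k1, k2⟩ := cov3 h2 (pResidual_eq_top (r := 3) (by norm_num) (by norm_num) (by rw [h4]; norm_num))
    fun a _ b _ => MT_class L8 a b
  obtain ⟨t, t1, t2, t3, t4⟩ := exists_involution (x := u) (by rw [h1]; norm_num)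
  obtain ⟨L', rfl⟩ := L.exists_rebase t1 t2
  have h5 : (L'.K.π (xc t3)).support.card = 3 := by
    refine card_support_of_three L'.K (xc_cube hx t3) (fun e => ?_) (t4.trans ?_)
    · rw [show u = 1 from congrArg Subtype.val e, orderOf_one] at hx
      omega
    · rw [← Nat.card_congr (subgroupOfEquivOfLe (inf_le_right :
        centralizer ({u} : Set Ly) ⊓ centralizer ({L'.t} : Set Ly) ≤ centralizer ({L'.t} : Set Ly))).toEquiv]
      exact card_dvd_of_le fun y hy => mem_centralizer_singleton_iff.2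
        (Subtype.ext (mem_centralizer_singleton_iff.1 (mem_subgroupOf.1 hy).1))
  refine ⟨L', fun y y3 hy => ?_⟩
  obtain ⟨c, hc⟩ := isConj_iff.1 (alternatingGroup.isThreeCycle_isConj (by simp)
    (σ := ⟨_, L'.K.mem_alternating (xc t3)⟩) (τ := ⟨_, L'.K.mem_alternating y⟩)
    (card_support_eq_three_iff.1 h5) (card_support_eq_three_iff.1 hy))
  obtain ⟨g, hg⟩ := L'.K.exists_lift c.2
  have h6 : g * xc t3 * g⁻¹ = y := L'.K.odd_lift_unique (n := 3) (by decide)
    (by rw [conj_pow, xc_cube hx, mul_one, mul_inv_cancel]) y3 (by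
      rw [map_mul, map_mul, map_inv, hg]
      exact congrArg Subtype.val hc)
  let e := SporRec.LyType.conjCentEquiv (t := u) (s := (y : Ly)) (g : Ly) (congrArg Subtype.val h6)
  have h7 : e.toMonoidHom.range = ⊤ := MonoidHom.range_eq_top.2 e.surjective
  exact ⟨eq_top_iff.2 (h7 ▸ range_le k1 _), h7 ▸ k2.map _ e.injective⟩

/-- the involution centralizer -/
noncomputable def L : MT 11 Ly := Classical.choose exL

/-- the model of the involution centralizer -/
noncomputable def M0 : Mdl Ly := mMT 11 (by norm_num) (by norm_num) L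

/-- the code of the element of order three -/
def yc : ℕ := 0x3351310eeccaa8866442200

theorem exy : ∃ y, M0.R yc y := M0.ex_of (w := 0) (by decide +kernel)

/-- the element of order three -/
noncomputable def y : Ly := Classical.choose exy

theorem hy : M0.R yc y := Classical.choose_spec exy

theorem supp : (L.K.π ⟨y, hy.1⟩).support.card = 3 := by
  have h1 := R10.TEval.EV.proj hy
  rw [(Classical.choose_spec (R10.TEval.exists_E (n := 11) (by norm_num) L.K)).2.1] at h1
  exact (congrArg (fun σ : Equiv.Perm (Fin 11) => σ.support.card) h1).trans (by decide +kernel)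

theorem facts : pResidual 2 (centralizer ({y} : Set Ly)) = ⊤ ∧ One (⊤ : Subgroup (centralizer ({y} : Set Ly))) :=
  Classical.choose_spec exL ⟨y, hy.1⟩ (Subtype.ext (M0.eq_of (Mdl.R_pw hy 3) M0.R_one (by decide +kernel))) supp

/-- the group -/
noncomputable abbrev G : Subgroup Ly := Ex y

/-- the model -/
noncomputable def M : Mdl G :=
  subM M0 G (fun a w => M0.ok a w && (M0.eqv (M0.mul a yc) (M0.mul yc a) || M0.eqv (M0.mul yc (M0.mul a yc)) a))
    fun a w h => by
      rw [Bool.and_eq_true, Bool.or_eq_true] at h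
      obtain ⟨g, hg⟩ := M0.ex_of h.1
      refine ⟨g, h.2.imp (fun k => ?_) fun k => ?_, hg⟩
      · rw [M0.eq_of (M0.R_mul hg hy) (M0.R_mul hy hg) k, mul_inv_cancel_right]
      · rw [mul_inv_eq_iff_eq_mul, eq_inv_mul_iff_mul_eq, M0.eq_of (M0.R_mul hy (M0.R_mul hg hy)) hg k]

theorem fin : Finite G :=
  haveI := fin0
  inferInstance

/-- the codes of the generators of the Sylow subgroup -/
def X : ℕ → ℕ := get 90 0xd54cc43bb32aa2199108807553310cecc8a8846440200d54cc43bb32aa2119100803553310ae8caa8826042200d54cc433b322a20981088035533108eac8a8826040200d544c433b32aa21191008035533100e2c4a6866442200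

theorem ex : ∃ x, M.RX dLy X x := Mdl.exists_RX (W := fun _ => 0) (by decide +kernel)

/-- the generators -/
noncomputable def x : ℕ → G := Classical.choose ex

theorem hx : M.RX dLy X x := Classical.choose_spec ex

theorem rels : M.rels dLy X = true := by decide +kernel

theorem bits : (allB 8 fun i => Nat.beq i 1 || M0.eqv (M0.mul (X i) yc) (M0.mul yc (X i))) = true := by decide +kernel

theorem inner (i : ℕ) (hi : i < dLy.n) (e : i ≠ 1) : x i ∈ (inclusion (le_Ex y)).range := by
  have h := allB_spec bits hi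
  rw [beq_false e, Bool.false_or] at h
  rw [inclusion_range, mem_subgroupOf, mem_centralizer_singleton_iff]
  exact M0.eq_of (M0.R_mul (hx i hi) hy) (M0.R_mul hy (hx i hi)) h

theorem outer : x 1 ∉ (inclusion (le_Ex y)).range := by
  rw [inclusion_range, mem_subgroupOf, mem_centralizer_singleton_iff]
  intro h
  have h1 : M0.R (X 1) (x 1) := hx 1 (by decide)
  have h2 := M0.eq_of (M0.R_mul hy (M0.R_mul h1 hy)) h1 (by decide +kernel)
  have h3 := M0.eq_of (M0.R_mul hy (M0.R_mul hy hy)) M0.R_one (by decide +kernel)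
  rw [h, ← mul_assoc, mul_eq_right] at h2
  rw [h2, mul_one] at h3
  have h4 := supp
  rw [show (⟨y, hy.1⟩ : centralizer ({L.t} : Set Ly)) = 1 from Subtype.ext h3, map_one, Equiv.Perm.support_one] at h4
  cases h4

theorem base : Base dLy G x K2 := by
  have := fin0
  obtain ⟨S, J⟩ := hx.gen dLy_ok rels
  refine base_ix J (fun h => ?_) (fun g h h1 h2 => ?_) (range_le facts.1 _) inner outer K2_ok fun z hz => ?_
  · refine odd_index (J.map G.subtype Subtype.val_injective) (m := 202207730484375) Ly.Setup.card_ly (by norm_num)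
      (h.trans ?_)
    rw [index_map_subtype]
    exact Dvd.intro _ rfl
  · rw [inclusion_range, mem_subgroupOf, mem_centralizer_singleton_iff, ← mul_inv_eq_iff_eq_mul] at h1 h2 ⊢
    rw [coe_mul, show (g : Ly) * h * y * ((g : Ly) * h)⁻¹ = g * (h * y * (h : Ly)⁻¹) * (g : Ly)⁻¹ by group,
      h.2.resolve_left h2, show (g : Ly) * y⁻¹ * (g : Ly)⁻¹ = (g * y * (g : Ly)⁻¹)⁻¹ by group, g.2.resolve_left h1, inv_inv]
  · obtain rfl : z = 128 := List.mem_singleton.1 hz
    have k := fun a => (facts.2.map _ (inclusion_injective (le_Ex y))).conj J inner outer (l := [128, 1, 8])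
      (by decide +kernel) (a := 128) (b := a) (by decide)
    exact ⟨1, 8, by decide, by decide, (k 1 (by decide)).2, (k 8 (by decide)).2, by decide +kernel⟩

theorem rz : Rz2 ⟨dLy, 2, 0⟩ G x := base.rz2 K2_lam

theorem p7 : Pos dLy x 7 0x91c010d1504101 0x60504030201 0x60504030201 128 :=
  hx.pos 0x35533104e0c0a8826240201 0 0x35533104e0c0a8826240201 0 (by decide +kernel)

theorem p9 : Pos dLy x 9 0xb8d0d8f030c090a808 0x50802070600040301 0x30108000706050402 128 :=
  hx.pos 0x3553310eeccaa8846242200 0 0x3553310ceacaa8866442200 0 (by decide +kernel)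

end GMc

end Cfsg.Agent.FS.N.Sq
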