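import Cfsg.Agent.FS.N.M.Rz
import Cfsg.Agent.FS.Real.PermM

/-!
# S5288, models with a perfect subgroup of index two: general tools (helper83, project FS/N)
-/

set_option autoImplicit false

namespace Cfsg.Agent.FS.N.Sq

open Cfsg Cfsg.FusionSystem Subgroup Cfsg.Agent.FS.Real Cfsg.Agent.FS.N.M

section words

variable {Γ : Type} [Group Γ]

/-- the value of the word given by the hexadecimal digits below the leading `1`, the lowest first -/
noncomputable def wv (M : Mdl Γ) (g : ℕ → ℕ) (f : ℕ) : ℕ → ℕ :=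
  Nat.rec (fun _ => M.one) (fun _ r c => force c fun c => bif Nat.ble c 1 then M.one else
    force (r (c / 16)) fun t => M.mul (g (c % 16)) t) f

theorem in_wv {M : Mdl Γ} {Q : Subgroup Γ} {g : ℕ → ℕ} (hg : ∀ i, ∃ y ∈ Q, M.R (g i) y) :
    ∀ f c, ∃ y ∈ Q, M.R (wv M g f c) y
  | 0, _ => ⟨1, Q.one_mem, M.R_one⟩
  | f + 1, c => by
    rw [show wv M g (f + 1) c = force c fun c => bif Nat.ble c 1 then M.one else
      force (wv M g f (c / 16)) fun t => M.mul (g (c % 16)) t from rfl, force_eq, force_eq]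
    cases Nat.ble c 1
    · obtain ⟨y, h1, h2⟩ := hg (c % 16)
      obtain ⟨z, h3, h4⟩ := in_wv hg f (c / 16)
      exact ⟨y * z, Q.mul_mem h1 h3, M.R_mul h2 h4⟩
    · exact ⟨1, Q.one_mem, M.R_one⟩

/-- the model of a subgroup -/
noncomputable def subM (M : Mdl Γ) (Q : Subgroup Γ) (ok : ℕ → ℕ → Bool)
    (hok : ∀ a w, ok a w = true → ∃ y ∈ Q, M.R a y) : Mdl Q where
  R c h := M.R c h.1
  mul := M.mul
  one := M.one
  eqv := M.eqv
  neq := M.neq
  ok := ok
  R_one := M.R_one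
  R_mul := fun h k => M.R_mul h k
  eq_of := fun h k e => Subtype.ext (M.eq_of h k e)
  ne_of := fun h k e e' => M.ne_of h k e (congrArg Subtype.val e')
  ex_of := fun h => by
    obtain ⟨y, h1, h2⟩ := hok _ _ h
    exact ⟨⟨y, h1⟩, h2⟩

theorem getD_all {α : Type} {Pr : α → Prop} {d : α} (hd : Pr d) {L : List α} (h : ∀ a ∈ L, Pr a) (i : ℕ) :
    Pr (L.getD i d) := by
  rw [List.getD_eq_getElem?_getD]
  cases e : L[i]?
  exacts [hd, h _ (List.mem_of_getElem? e)]

end words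

section semi

variable {K : Type} [Group K] {φ : MulAut K}

theorem mem_zpowers_two {A : Type} [Group A] {a b : A} (h : a * a = 1) (hb : b ∈ zpowers a) : b = 1 ∨ b = a := by
  obtain ⟨k, rfl⟩ := mem_zpowers_iff.1 hb
  have h2 : a ^ (2 : ℤ) = 1 := by rw [zpow_two, h]
  rcases Int.even_or_odd' k with ⟨m, rfl | rfl⟩
  · exact Or.inl (by rw [zpow_mul, h2, one_zpow])
  · exact Or.inr (by rw [zpow_add, zpow_mul, h2, one_zpow, one_mul, zpow_one])

/-- the extension by an automorphism -/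
abbrev Ext (φ : MulAut K) : Type := K ⋊[(zpowers φ).subtype] zpowers φ

theorem card_ext (h1 : φ ≠ 1) (h2 : φ * φ = 1) : Nat.card (Ext φ) = Nat.card K * 2 := by
  have : Fact (Nat.Prime 2) := ⟨Nat.prime_two⟩
  rw [SemidirectProduct.card, Nat.card_zpowers, orderOf_eq_prime (by rw [pow_two, h2]) h1]

/-- The model of the extension by an automorphism of order two; the lowest bit is the coset. -/
noncomputable def semi (M : Mdl K) (h2 : φ * φ = 1) (ph : ℕ → ℕ)
    (hph : ∀ a g, M.R a g → M.R (ph a) (φ g)) : Mdl (Ext φ) where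
  R c g := M.R (c / 2) g.left ∧ (g.right : MulAut K) = bif Nat.beq (c % 2) 1 then φ else 1
  mul c d := force c fun c => force d fun d =>
    2 * M.mul (c / 2) (bif Nat.beq (c % 2) 1 then ph (d / 2) else d / 2) + (c + d) % 2
  one := 2 * M.one
  eqv c d := force c fun c => force d fun d => Nat.beq (c % 2) (d % 2) && M.eqv (c / 2) (d / 2)
  neq c d := force c fun c => force d fun d => M.neq (c / 2) (d / 2)
  ok c w := M.ok (c / 2) w
  R_one := by
    rw [Nat.mul_div_cancel_left _ two_pos, Nat.mul_mod_right]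
    exact ⟨M.R_one, rfl⟩
  R_mul := by
    rintro a b g h ⟨k1, k2⟩ ⟨k3, k4⟩
    have e1 : ∀ m, (2 * m + (a + b) % 2) / 2 = m := fun m => by omega
    have e2 : ∀ m, (2 * m + (a + b) % 2) % 2 = (a % 2 + b % 2) % 2 := fun m => by omega
    rw [force_eq, force_eq, e1, e2, SemidirectProduct.mul_left, SemidirectProduct.mul_right, coe_mul, k2, k4]
    refine ⟨M.R_mul k1 ?_, ?_⟩
    · show M.R _ ((g.right : MulAut K) h.left)
      rw [k2]
      cases Nat.beq (a % 2) 1
      exacts [k3, hph _ _ k3]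
    · rcases Nat.mod_two_eq_zero_or_one a with e | e <;> rcases Nat.mod_two_eq_zero_or_one b with e' | e' <;>
        rw [e, e']
      exacts [one_mul _, one_mul _, mul_one _, h2]
  eq_of := by
    rintro a b g h ⟨k1, k2⟩ ⟨k3, k4⟩ e
    rw [force_eq, force_eq, Bool.and_eq_true] at e
    exact SemidirectProduct.ext (M.eq_of k1 k3 e.2) (Subtype.ext (by rw [k2, k4, beq_eq e.1]))
  ne_of := by
    rintro a b g h ⟨k1, -⟩ ⟨k3, -⟩ e e'
    rw [force_eq, force_eq] at e
    exact M.ne_of k1 k3 e (congrArg SemidirectProduct.left e')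
  ex_of := by
    intro a w h
    obtain ⟨g, hg⟩ := M.ex_of h
    cases e : Nat.beq (a % 2) 1
    exacts [⟨⟨g, 1⟩, hg, rfl⟩, ⟨⟨g, ⟨φ, mem_zpowers φ⟩⟩, hg, rfl⟩]

/-- the subgroup of index two -/
abbrev Inn (φ : MulAut K) : Subgroup (Ext φ) := (SemidirectProduct.inl : K →* Ext φ).range

theorem mem_inn {g : Ext φ} : g ∈ Inn φ ↔ (g.right : MulAut K) = 1 := by
  unfold Inn
  rw [SemidirectProduct.range_inl_eq_ker_rightHom, MonoidHom.mem_ker, SemidirectProduct.rightHom_eq_right,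
    OneMemClass.coe_eq_one]

theorem inn_mul (h2 : φ * φ = 1) (g h : Ext φ) (hg : g ∉ Inn φ) (hh : h ∉ Inn φ) : g * h ∈ Inn φ := by
  rw [mem_inn] at hg hh ⊢
  rw [SemidirectProduct.mul_right, coe_mul, (mem_zpowers_two h2 g.right.2).resolve_left hg,
    (mem_zpowers_two h2 h.right.2).resolve_left hh, h2]

theorem semi_mem {M : Mdl K} (h1 : φ ≠ 1) {h2 : φ * φ = 1} {ph : ℕ → ℕ} {hph : ∀ a g, M.R a g → M.R (ph a) (φ g)}
    {c : ℕ} {g : Ext φ} (h : (semi M h2 ph hph).R c g) : g ∈ Inn φ ↔ Nat.beq (c % 2) 1 = false := by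
  rw [mem_inn, h.2]
  cases Nat.beq (c % 2) 1
  · exact ⟨fun _ => rfl, fun _ => rfl⟩
  · exact ⟨fun e => absurd e h1, fun e => nomatch e⟩

end semi

section group

variable {G : Type} [Group G]

/-- all involutions of `N` are conjugate -/
def One (N : Subgroup G) : Prop := ∀ a ∈ N, ∀ b ∈ N, a ≠ 1 → a * a = 1 → b ≠ 1 → b * b = 1 → IsConj a b

theorem One.map {K : Type} [Group K] (h : One (⊤ : Subgroup K)) (f : K →* G) (hf : Function.Injective f) :
    One f.range := by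
  rintro _ ⟨a, rfl⟩ _ ⟨b, rfl⟩ a1 a2 b1 b2
  refine f.map_isConj (h a (mem_top _) b (mem_top _) (fun e => a1 (by rw [e, map_one])) (hf ?_)
    (fun e => b1 (by rw [e, map_one])) (hf ?_))
  · rw [map_mul, a2, map_one]
  · rw [map_mul, b2, map_one]

theorem range_le {K : Type} [Group K] (h : pResidual 2 K = ⊤) (f : K →* G) : f.range ≤ pResidual 2 G := by
  rw [MonoidHom.range_eq_map, ← h]
  exact Transfer.Residual.map_pResidual_le 2 f

/-- a triple cover -/
theorem cov3 [Finite G] (hZ : Nat.card (center G) = 3) (hr : pResidual 2 (G ⧸ center G) = ⊤)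
    (hc : One (⊤ : Subgroup (G ⧸ center G))) : pResidual 2 G = ⊤ ∧ One (⊤ : Subgroup G) := by
  have : Fact (Nat.Prime 2) := ⟨Nat.prime_two⟩
  have h3 : ∀ c ∈ center G, c ^ 3 = 1 := fun c hc => by
    have h := pow_card_eq_one' (x := (⟨c, hc⟩ : center G))
    rw [hZ] at h
    exact congrArg Subtype.val h
  have h2 : ∀ c ∈ center G, c * c = 1 → c = 1 := fun c hc e => by
    rw [← h3 c hc, pow_three', e, one_mul]
  refine ⟨eq_top_iff.2 fun g _ => ?_, fun a _ b _ a1 a2 b1 b2 => ?_⟩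
  · have h4 := Transfer.Residual.map_pResidual_of_surjective (p := 2) (QuotientGroup.mk' (center G))
      (QuotientGroup.mk'_surjective _)
    have h5 : QuotientGroup.mk' (center G) g ∈ (pResidual 2 G).map (QuotientGroup.mk' (center G)) := by
      rw [h4, hr]
      exact mem_top _
    obtain ⟨y, hy, e⟩ := h5
    have h6 : y⁻¹ * g ∈ center G := QuotientGroup.eq.1 e
    rw [show g = y * (y⁻¹ * g) by group]
    exact mul_mem hy (mem_pResidual_of_pow (m := 3) rfl (h3 _ h6))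
  · have k : ∀ a : G, a ≠ 1 → a * a = 1 → (a : G ⧸ center G) ≠ 1 ∧ (a : G ⧸ center G) * a = 1 := fun a a1 a2 =>
      ⟨fun e => a1 (h2 a ((QuotientGroup.eq_one_iff a).1 e) a2), by rw [← QuotientGroup.mk_mul, a2]; rfl⟩
    obtain ⟨q, hq⟩ := isConj_iff.1 (hc _ (mem_top _) _ (mem_top _) (k a a1 a2).1 (k a a1 a2).2 (k b b1 b2).1 (k b b1 b2).2)
    obtain ⟨g, rfl⟩ := QuotientGroup.mk_surjective q
    have h4 : (g * a * g⁻¹)⁻¹ * b ∈ center G := QuotientGroup.eq.1 hq
    have h5 := mem_center_iff.1 h4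
    refine isConj_iff.2 ⟨g, inv_mul_eq_one.1 (h2 _ h4 ?_)⟩
    have h6 : (g * a * g⁻¹)⁻¹ * (g * a * g⁻¹)⁻¹ = 1 := by
      rw [← mul_inv_rev, show g * a * g⁻¹ * (g * a * g⁻¹) = g * (a * a) * g⁻¹ by group, a2]
      group
    calc (g * a * g⁻¹)⁻¹ * b * ((g * a * g⁻¹)⁻¹ * b) = (g * a * g⁻¹)⁻¹ * (b * ((g * a * g⁻¹)⁻¹ * b)) := by group
      _ = (g * a * g⁻¹)⁻¹ * ((g * a * g⁻¹)⁻¹ * b * b) := by rw [h5 b]
      _ = 1 := by rw [mul_assoc _ b b, b2, mul_one, h6]

theorem exists_cinv {X : Subgroup G} [Finite X] (hp : IsPGroup 2 X) (h0 : X ≠ ⊥) :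
    ∃ t ∈ X, t ≠ 1 ∧ t * t = 1 ∧ ∀ u ∈ X, u * t = t * u := by
  have : Fact (Nat.Prime 2) := ⟨Nat.prime_two⟩
  have : Nontrivial X := (Subgroup.nontrivial_iff_ne_bot X).2 h0
  have hZ := hp.center_nontrivial
  obtain ⟨k, hk⟩ := IsPGroup.iff_card.1 (hp.to_subgroup (center X))
  have h2 : 2 ∣ Nat.card (center X) := by
    rw [hk]
    refine dvd_pow_self 2 ?_
    rintro rfl
    have := Finite.one_lt_card_iff_nontrivial.2 hZ
    omega
  obtain ⟨s, hs⟩ := exists_prime_orderOf_dvd_card' (G := center X) 2 h2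
  have h3 : orderOf ((s : X) : G) = 2 := (orderOf_coe _).trans ((orderOf_coe _).trans hs)
  refine ⟨_, (s : X).2, fun e => ?_, by rw [← pow_two, ← h3, pow_orderOf_eq_one], fun u hu =>
    congrArg Subtype.val (mem_center_iff.1 s.2 ⟨u, hu⟩)⟩
  rw [e, orderOf_one] at h3
  omega

variable {D : PcD} {x : ℕ → G}

theorem el_mem_iff {N : Subgroup G} {j n : ℕ} (hx : ∀ i, i < n → i ≠ j → x i ∈ N) (hj : x j ∉ N) (a : ℕ) :
    ∀ k, k ≤ n → (el x k a ∈ N ↔ ¬ (j < k ∧ tb a j = true))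
  | 0, _ => ⟨fun _ h => by omega, fun _ => N.one_mem⟩
  | k + 1, hk => by
    have ih := el_mem_iff hx hj a k (by omega)
    rw [el_succ]
    by_cases e : k = j
    · subst e
      have h1 := ih.2 fun h => lt_irrefl _ h.1
      cases tb a k
      · exact ⟨fun _ h => (nomatch h.2), fun _ => h1⟩
      · exact ⟨fun h _ => hj ((mul_mem_cancel_left h1).1 h), fun h => absurd ⟨Nat.lt_succ_self _, rfl⟩ h⟩
    · rw [show j < k + 1 ↔ j < k by omega, ← ih]
      cases tb a k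
      · rfl
      · exact mul_mem_cancel_right (hx k hk e)

theorem core_eq_bot [Finite G] {T : Sylow 2 G} (H : Gen D T x)
    (hc : ∀ z ∈ D.zl, ∃ a b, a < D.N ∧ b < D.N ∧ IsConj (el x D.n z) (el x D.n a) ∧ IsConj (el x D.n z) (el x D.n b) ∧
      D.mul a b ≠ D.mul b a) : (groupFusionSystem (T : Subgroup G)).core = ⊥ := by
  have : Fact (Nat.Prime 2) := ⟨Nat.prime_two⟩
  by_contra h0
  obtain ⟨Q, hQ0, hQc, hQS, hQ⟩ := (S5089.result 2 H.isPGroup _ (S5076.result 2 T)).1 h0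
  have key : ∀ t ∈ Q, ∀ g : G, g * t * g⁻¹ ∈ (T : Subgroup G) → g * t * g⁻¹ ∈ Q := by
    intro t ht g hg
    have h1 : zpowers t ≤ Q := zpowers_le.2 ht
    refine hQ _ h1 (conjHom _ g) ⟨h1.trans hQS, ?_, g, fun _ => rfl⟩ ⟨t, mem_zpowers t⟩
    rintro ⟨_, k, rfl⟩
    show g * t ^ k * g⁻¹ ∈ (T : Subgroup G)
    rw [← conj_zpow]
    exact Subgroup.zpow_mem _ hg k
  obtain ⟨z, hz, hzQ⟩ := H.exists_z hQS (fun s hs a ha => key a ha s
    ((T : Subgroup G).mul_mem ((T : Subgroup G).mul_mem hs (hQS ha)) ((T : Subgroup G).inv_mem hs))) hQ0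
  obtain ⟨a, b, ha, hb, h1, h2, h3⟩ := hc z hz
  have k : ∀ c, IsConj (el x D.n z) (el x D.n c) → el x D.n c ∈ Q := fun c hc => by
    obtain ⟨g, hg⟩ := isConj_iff.1 hc
    rw [← hg]
    refine key _ hzQ g ?_
    rw [hg]
    exact H.el_mem' c
  have h5 : el x D.n a * el x D.n b = el x D.n b * el x D.n a :=
    congrArg Subtype.val (hQc.is_comm.comm ⟨_, k a h1⟩ ⟨_, k b h2⟩)
  rw [H.mul ha, H.mul hb] at h5
  exact h3 (H.inj (D.mul_lt ha _) (D.mul_lt hb _) h5)

/-- check: `K` is the set of the indices without the bit `j`, and `z` is the only central involution there -/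
noncomputable def ixOk (D : PcD) (j K z : ℕ) : Bool :=
  Nat.blt j D.n && allB (2 ^ D.n) fun a => bif tb a j then !tb K a else tb K a &&
    (Nat.beq a 0 || Nat.beq a z || !Nat.beq (D.mul a a) 0 ||
      anyB D.n fun i => !Nat.beq i j && !Nat.beq (D.mul a (2 ^ i)) (D.mul (2 ^ i) a))

/-- **A model with a perfect subgroup of index two.** -/
theorem base_ix [Finite G] {S : Subgroup G} (H : Gen D S x) (ho : ¬ 2 ∣ S.index) {N : Subgroup G}
    (hN : ∀ g h, g ∉ N → h ∉ N → g * h ∈ N) (hr : N ≤ pResidual 2 G) {j K z : ℕ}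
    (hx : ∀ i, i < D.n → i ≠ j → x i ∈ N) (hj : x j ∉ N) (hk : ixOk D j K z = true)
    (hc : ∀ z ∈ D.zl, ∃ a b, a < D.N ∧ b < D.N ∧ IsConj (el x D.n z) (el x D.n a) ∧ IsConj (el x D.n z) (el x D.n b) ∧
      D.mul a b ≠ D.mul b a) : Base D G x K := by
  have : Fact (Nat.Prime 2) := ⟨Nat.prime_two⟩
  unfold ixOk at hk
  rw [Bool.and_eq_true] at hk
  have hi : N.index = 2 := index_eq_two_iff'.2 ⟨x j, fun b => by
    by_cases hb : b ∈ N
    · exact Or.inr ⟨hb, fun e => hj ((mul_mem_cancel_right hb).1 e)⟩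
    · exact Or.inl ⟨hN _ _ hj hb, hb⟩⟩
  have := normal_of_index_eq_two hi
  have hR : pResidual 2 G = N := le_antisymm (Transfer.Residual.pResidual_le_of_isPGroup_quotient
    (IsPGroup.of_card (n := 1) (by rw [← index_eq_card, hi, pow_one]))) hr
  have hm : ∀ a, el x D.n a ∈ N ↔ tb a j = false := fun a => by
    rw [el_mem_iff hx hj a _ le_rfl, and_iff_right (blt_lt hk.1), Bool.not_eq_true]
  have hu : ∀ X : Subgroup G, X ≠ ⊥ → ∀ Y : Subgroup G, X ⊔ Y = res S → (∀ u ∈ X, ∀ v ∈ Y, u * v = v * u) →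
      el x D.n z ∈ X ∧ el x D.n z ≠ 1 := fun X h0 Y h1 h2 => by
    have h3 : X ≤ res S := h1 ▸ le_sup_left
    obtain ⟨t, t0, t1, t2, t3⟩ := exists_cinv (H.isPGroup.to_le (h3.trans inf_le_left)) h0
    have h4 : res S ≤ centralizer {t} := h1 ▸ sup_le (fun u hu => mem_centralizer_singleton_iff.2 (t3 u hu))
      fun v hv => mem_centralizer_singleton_iff.2 (h2 t t0 v hv).symm
    obtain ⟨a, ha, rfl⟩ := (H.mem t).1 (h3 t0).1
    have h5 := allB_spec hk.2 ha
    rw [(hm a).1 (hR ▸ (h3 t0).2), cond_false] at h5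
    simp only [Bool.and_eq_true, Bool.or_eq_true] at h5
    rcases h5.2 with ((h6 | h6) | h6) | h6
    · exact absurd (by rw [beq_eq h6, el_nil]) t1
    · exact beq_eq h6 ▸ ⟨t0, t1⟩
    · exact absurd (H.eq_zero (D.mul_lt ha a) (by rw [← H.mul ha, t2])) (nbeq_ne h6)
    · obtain ⟨i, hi, h7⟩ := anyB_spec h6
      rw [Bool.and_eq_true] at h7
      refine absurd (H.inj (D.mul_lt ha _) (D.mul_lt (D.two_pow_lt hi) _) ?_) (nbeq_ne h7.2)
      rw [← H.mul ha, ← H.mul (D.two_pow_lt hi), el_two_pow x _ hi]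
      exact (mem_centralizer_singleton_iff.1 (h4 ⟨H.x_mem hi, hr (hx i hi (nbeq_ne h7.1))⟩)).symm
  refine ⟨inferInstance, ⟨H.isPGroup.toSylow ho, H, core_eq_bot (T := H.isPGroup.toSylow ho) H hc,
    fun X Y h1 h2 h3 h4 h5 _ => ?_⟩, fun a ha => ?_⟩
  · obtain ⟨k1, k2⟩ := hu X h1 Y h4 h5
    have k3 := (hu Y h2 X ((sup_comm _ _).trans h4) fun u hu v hv => (h5 v hv u hu).symm).1
    exact k2 (mem_bot.1 (h3 ▸ (mem_inf.2 ⟨k1, k3⟩)))
  · have h5 := allB_spec hk.2 ha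
    rw [hR, hm]
    revert h5
    cases tb a j <;> cases tb K a <;> simp

theorem odd_index {S : Subgroup G} (H : Gen D S x) {m : ℕ} (hm : Nat.card G = 2 ^ D.n * m) (ho : ¬ 2 ∣ m) :
    ¬ 2 ∣ S.index := by
  have h1 := S.card_mul_index
  rw [H.card, hm] at h1
  rwa [Nat.eq_of_mul_eq_mul_left (Nat.two_pow_pos _) h1]

/-- check: the members of `l` are involutions without the bit `j` -/
noncomputable def invs (D : PcD) (j : ℕ) (l : List ℕ) : Bool :=
  Nat.blt j D.n && l.all fun a => Nat.blt a (2 ^ D.n) && !Nat.beq a 0 && Nat.beq (D.mul a a) 0 && !tb a j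

theorem One.conj {S N : Subgroup G} (h : One N) (H : Gen D S x) {j : ℕ} (hx : ∀ i, i < D.n → i ≠ j → x i ∈ N)
    (hj : x j ∉ N) {l : List ℕ} (hl : invs D j l = true) {a b : ℕ} (ha : a ∈ l) (hb : b ∈ l) :
    b < D.N ∧ IsConj (el x D.n a) (el x D.n b) := by
  unfold invs at hl
  rw [Bool.and_eq_true, List.all_eq_true] at hl
  have k : ∀ a ∈ l, a < D.N ∧ el x D.n a ∈ N ∧ el x D.n a ≠ 1 ∧ el x D.n a * el x D.n a = 1 := fun a ha => by
    have h1 := hl.2 a ha
    simp only [Bool.and_eq_true] at h1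
    have h2 : a < D.N := blt_lt h1.1.1.1
    refine ⟨h2, (el_mem_iff hx hj a _ le_rfl).2 fun e => ?_, fun e => nbeq_ne h1.1.1.2 (H.eq_zero h2 e), by
      rw [H.mul h2, beq_eq h1.1.2, el_nil]⟩
    have h3 := h1.2
    rw [e.2] at h3
    cases h3
  exact ⟨(k b hb).1, h _ (k a ha).2.1 _ (k b hb).2.1 (k a ha).2.2.1 (k a ha).2.2.2 (k b hb).2.2.1 (k b hb).2.2.2⟩

/-- More conjugates of the central involution in the Sylow subgroup. -/
theorem sep_count {G' : Type} [Group G'] {x' : ℕ → G'} {z : ℕ} (hz : D.zl = [z]) (hc : D.cinv z = true) {l l' : List ℕ}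
    (hn : l.Nodup) (hl : ∀ a ∈ l, a < D.N ∧ IsConj (el x D.n z) (el x D.n a))
    (hl' : ∀ b, b < D.N → IsConj (el x' D.n z) (el x' D.n b) → b ∈ l') (h : l'.length < l.length) : Sep D x x' := by
  classical
  intro S' y H' H hT
  obtain ⟨c1, c2, c3⟩ := H.cinv hc
  obtain ⟨w, hw, h1⟩ := H'.central (H.el_mem' z) c1 c2 c3
  rw [hz, List.mem_singleton] at hw
  subst hw
  choose β h2 h3 using fun a => (H'.mem _).1 (H.el_mem' a)
  have h4 : l.toFinset.card ≤ l'.toFinset.card := by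
    refine Finset.card_le_card_of_injOn β (fun a ha => ?_) fun a ha b hb e => ?_
    · obtain ⟨g, hg⟩ := isConj_iff.1 (hl a (List.mem_toFinset.1 ha)).2
      obtain ⟨g', hg'⟩ := hT g
      refine List.mem_toFinset.2 (hl' _ (h2 a) ?_)
      rw [h1, h3]
      exact (hg' _ _ (act_of_conj hg)).isConj
    · exact H.inj (hl a (List.mem_toFinset.1 ha)).1 (hl b (List.mem_toFinset.1 hb)).1 (by rw [← h3, ← h3, e])
  rw [List.toFinset_card_of_nodup hn] at h4
  exact absurd (h4.trans (List.toFinset_card_le l')) (not_le.2 h)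

end group

end Cfsg.Agent.FS.N.Sq
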